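import Cfsg.Agent.HSRecog.Loc
import Cfsg.Agent.HSRecog.CertRel
import Cfsg.Agent.HSRecog.Loop.Data

/-!
Words in the model, evaluated on the points, and the checks on the subgroup of order 384.
-/

set_option autoImplicit false
set_option Elab.async false
set_option maxRecDepth 100000

namespace Cfsg.Agent.HSRecog.Loop

/-- A packed permutation at a point. -/
def evP (a p : ℕ) : ℕ := Nat.land (Nat.shiftRight a (6 * p)) 63

/-- A letter at a point. -/
def evL (k p : ℕ) : ℕ := cond (Nat.blt k 7) (evP (genPk.getD k 0) p) p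

/-- A word at a point. -/
noncomputable def evW (w : List ℕ) (p : ℕ) : ℕ :=
  List.rec (motive := fun _ => ℕ) p (fun k _ q => evL k q) w

/-- The value of a word in the model. -/
def valM (w : List ℕ) : MM := (w.map lq).prod

theorem letter_ok : ∀ k : Fin 7, ∀ p : Fin 64,
    ((lq k.val : Equiv.Perm (Fin 64)) p).val = evL k.val p.val := by
  decide +kernel

theorem lq_big {k : ℕ} (hk : 7 ≤ k) : lq k = 1 := by
  rw [lq, List.getD_eq_default _ _ (by simpa using hk)]

theorem evW_spec : ∀ (w : List ℕ) (p : Fin 64),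
    ((valM w : Equiv.Perm (Fin 64)) p).val = evW w p.val
  | [], p => by simp [valM, evW]
  | k :: w, p => by
    have ih := evW_spec w p
    rw [valM, List.map_cons, List.prod_cons, Subgroup.coe_mul, Equiv.Perm.mul_apply]
    show _ = evL k (evW w p.val)
    rw [← ih]
    by_cases hk : k < 7
    · exact letter_ok ⟨k, hk⟩ _
    · have hb : Nat.blt k 7 = false := Bool.eq_false_iff.2 fun h => hk (Nat.le_of_ble_eq_true h)
      rw [lq_big (by omega), evL, hb]
      rfl

/-- Two words agree on all points. -/
noncomputable def same (u v : List ℕ) : Bool :=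
  (List.range 64).all fun p => Nat.beq (evW u p) (evW v p)

theorem same_iff {u v : List ℕ} : same u v = true ↔ valM u = valM v := by
  constructor
  · intro h
    apply Subtype.ext
    ext p
    rw [evW_spec, evW_spec]
    exact Nat.eq_of_beq_eq_true (List.all_eq_true.1 h p.val (List.mem_range.2 p.2))
  · intro h
    refine List.all_eq_true.2 fun p hp => ?_
    rw [← evW_spec u ⟨p, List.mem_range.1 hp⟩, h, evW_spec v ⟨p, List.mem_range.1 hp⟩]
    exact Nat.beq_refl _

theorem evW_append : ∀ (u v : List ℕ) (p : ℕ), evW (u ++ v) p = evW u (evW v p)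
  | [], _, _ => rfl
  | k :: u, v, p => congrArg (evL k) (evW_append u v p)

/-- The generators of the subgroup of order 384. -/
def dgW (k : ℕ) : List ℕ :=
  [[1], [2, 2, 2, 6, 3, 3, 3], [2, 0, 0, 3], [4, 2, 2, 2, 6, 3, 3, 3, 5], [4, 2, 0, 0, 3, 5], [4],
    [6]].getD k []

/-- Their images under `h`. -/
def agW (k : ℕ) : List ℕ :=
  [[0], [2, 0, 0, 3], [2, 2, 2, 6, 3, 3, 3], [4, 2, 0, 0, 3, 5], [4, 2, 2, 2, 6, 3, 3, 3, 5], [4],
    [6]].getD k []

/-- The elements of the subgroup. -/
def dW (i : ℕ) : List ℕ := (dIdx.getD i []).flatMap dgW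

/-- Their images. -/
def aW (i : ℕ) : List ℕ := (dIdx.getD i []).flatMap agW

/-- Representatives of the cosets of the subgroup in the centraliser. -/
def repW (k : ℕ) : List ℕ := [[], rwL, 4 :: rwL, 4 :: 4 :: rwL].getD k []

/-- The inverse of a word. -/
def invW (w : List ℕ) : List ℕ := w.reverse.map fun a => [1, 0, 3, 2, 5, 4, 6].getD a 7

/-- The left multiple of an element by a generator. -/
def nx (i k : ℕ) : ℕ := (nxtT.getD i []).getD k 384

/-- The two test elements. -/
def yW (j : ℕ) : List ℕ := [[2, 2, 2, 2, 2, 4, 6, 2, 2], [0, 0, 6]].getD j []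

/-- The indices of the chain. -/
def ch (j m : ℕ) : ℕ := (chT.getD j []).getD m 384

/-- The result of the chain. -/
def ypW (j : ℕ) : List ℕ := [3, 3] ++ aW (ch j 2) ++ [2, 2]

/-- The index of the conjugate of the result. -/
def jI (k j : ℕ) : ℕ := (jT.getD k []).getD j 384

/-- A row of the coset table. -/
def stp (n m : ℕ) : ℕ := (stepT.getD n []).getD m 384

/-- The letters generating the model. -/
def gL (n : ℕ) : List ℕ := [[0], [2], [4], [6]].getD n []

/-- A representative of a coset of the subgroup in the model. -/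
def cosW (a k : ℕ) : List ℕ := List.replicate a 2 ++ repW k

theorem idx_ok : ((List.range 384).all fun i => (dIdx.getD i []).all fun k => Nat.blt k 7) = true := by
  decide +kernel

theorem idx_zero : dIdx.getD 0 [] = [] := by decide +kernel

theorem pk_ok : ((List.range 384).all fun i => (List.range 64).all fun p =>
    Nat.beq (evW (dW i) p) (evP (dPk.getD i 0) p)) = true := by
  decide +kernel

theorem nxt_ok : ((List.range 384).all fun i => (List.range 7).all fun k => Nat.blt (nx i k) 384 &&
    (List.range 64).all fun p =>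
      Nat.beq (evW (dgW k) (evP (dPk.getD i 0) p)) (evP (dPk.getD (nx i k) 0) p)) = true := by
  decide +kernel

theorem step_ok : ((List.range 4).all fun g => (List.range 7).all fun a => (List.range 4).all fun k =>
    Nat.blt (stp (28 * g + 4 * a + k) 0) 7 && Nat.blt (stp (28 * g + 4 * a + k) 1) 4 &&
    Nat.blt (stp (28 * g + 4 * a + k) 2) 384 &&
    same (gL g ++ cosW a k) (cosW (stp (28 * g + 4 * a + k) 0) (stp (28 * g + 4 * a + k) 1) ++
      dW (stp (28 * g + 4 * a + k) 2))) = true := by
  decide +kernel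

theorem comm_ok : (((List.range 7).all fun k => same ([0, 0] ++ dgW k) (dgW k ++ [0, 0])) &&
    ((List.range 4).all fun k => same ([0, 0] ++ repW k) (repW k ++ [0, 0])) &&
    ((List.range 7).all fun a => Nat.beq a 0 ||
      !same ([0, 0] ++ List.replicate a 2) (List.replicate a 2 ++ [0, 0]))) = true := by
  decide +kernel

theorem inv_ok : ((List.range 4).all fun k => same (repW k ++ invW (repW k)) []) = true := by
  decide +kernel

theorem chain_ok : ((List.range 2).all fun j => Nat.blt (ch j 0) 384 && Nat.blt (ch j 1) 384 &&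
    Nat.blt (ch j 2) 384 && same ([2, 2] ++ yW j ++ [3, 3]) (dW (ch j 0)) &&
    same ([2] ++ aW (ch j 0) ++ [3]) (dW (ch j 1)) &&
    same ([3] ++ aW (ch j 1) ++ [2]) (dW (ch j 2))) = true := by
  decide +kernel

theorem yW_mem : ((List.range 2).all fun j => same ([0, 0] ++ yW j) (yW j ++ [0, 0])) = true := by
  decide +kernel

theorem jI_ok : ((List.range 4).all fun k => (List.range 2).all fun j => (List.range 384).all fun i =>
    !same (invW (repW k) ++ ypW j ++ repW k) (dW i) || Nat.beq (jI k j) i) = true := by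
  decide +kernel

theorem inB_ok : ((List.range 4).all fun k => (List.range 384).all fun i =>
    !(same (repW k ++ dW i ++ yW 0) (ypW 0 ++ (repW k ++ dW i)) &&
      same (repW k ++ dW i ++ yW 1) (ypW 1 ++ (repW k ++ dW i)) &&
      same (repW k ++ dW i ++ (repW k ++ dW i)) [])) = true := by
  decide +kernel

theorem out_ok : ((List.range 4).all fun k => (List.range 384).all fun i =>
    !(Nat.blt (jI k 0) 384 && Nat.blt (jI k 1) 384 && same (aW i ++ dW i) [] &&
      same (dW i ++ invW (repW k) ++ yW 0) (aW (jI k 0) ++ (dW i ++ invW (repW k))) &&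
      same (dW i ++ invW (repW k) ++ yW 1) (aW (jI k 1) ++ (dW i ++ invW (repW k)))) ||
    (Nat.beq k 0 && (List.range 8).any fun n => same (dW i) (bList n))) = true := by
  decide +kernel

theorem valM_append (u v : List ℕ) : valM (u ++ v) = valM u * valM v := by
  rw [valM, valM, valM, List.map_append, List.prod_append]

theorem dgW_mul {k i : ℕ} (hk : k < 7) (hi : i < 384) :
    nx i k < 384 ∧ valM (dgW k ++ dW i) = valM (dW (nx i k)) := by
  have h := List.all_eq_true.1 (List.all_eq_true.1 nxt_ok i (List.mem_range.2 hi)) k (List.mem_range.2 hk)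
  simp only [Bool.and_eq_true, List.all_eq_true, Nat.blt_eq] at h
  refine ⟨h.1, same_iff.1 (List.all_eq_true.2 fun p hp => ?_)⟩
  have hpk : ∀ j < 384, evW (dW j) p = evP (dPk.getD j 0) p := fun j hj =>
    Nat.eq_of_beq_eq_true (List.all_eq_true.1 (List.all_eq_true.1 pk_ok j (List.mem_range.2 hj)) p hp)
  rw [evW_append, hpk i hi, hpk _ h.1]
  exact h.2 p hp

theorem flat_mul : ∀ (ds : List ℕ), (∀ k ∈ ds, k < 7) → ∀ i < 384,
    ∃ j < 384, valM (ds.flatMap dgW ++ dW i) = valM (dW j)
  | [], _, i, hi => ⟨i, hi, rfl⟩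
  | k :: ds, hds, i, hi => by
    obtain ⟨j, hj, e⟩ := flat_mul ds (fun a ha => hds a (List.mem_cons_of_mem k ha)) i hi
    obtain ⟨h1, h2⟩ := dgW_mul (hds k (List.mem_cons_self ..)) hj
    refine ⟨_, h1, ?_⟩
    rw [← h2, List.flatMap_cons, List.append_assoc, valM_append, e, ← valM_append]

theorem idx_lt {i : ℕ} (hi : i < 384) : ∀ k ∈ dIdx.getD i [], k < 7 := fun k hk => by
  simpa [Nat.blt_eq] using List.all_eq_true.1 (List.all_eq_true.1 idx_ok i (List.mem_range.2 hi)) k hk

end Cfsg.Agent.HSRecog.Loop
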